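import Cfsg.Agent.SimpleFacts.TitsTwoTransitive.Fusion
import Mathlib.Tactic

/-!
The Tits group has no two transitive action.
-/

set_option autoImplicit false

namespace Cfsg.Agent.SimpleFacts.TitsTwoTransitive

open Cfsg.Agent.Exceptional.Tits

attribute [local irreducible] ta tb tc tx ty tz tu

/-- A number is excluded or is one of the possible degrees. -/
noncomputable def degOK (n : ℕ) : Bool :=
  Nat.ble n 10 || !(Nat.beq (17971200 % (n * (n - 1))) 0) ||
    [13, 16, 25, 26, 27, 40, 65].contains n

theorem degOK_all : (Cfsg.Agent.Chevalley.Eval.allR 67 fun a =>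
    Cfsg.Agent.Chevalley.Eval.allR 64 fun b => degOK (64 * a + b)) = true := by decide +kernel

/-- The possible degrees. -/
theorem degrees (n : ℕ) (hn : n < 4241) (h10 : 10 < n) (h : 17971200 % (n * (n - 1)) = 0) :
    n ∈ [13, 16, 25, 26, 27, 40, 65] := by
  have h1 := Cfsg.Agent.Chevalley.Eval.of_allR
    (Cfsg.Agent.Chevalley.Eval.of_allR degOK_all (n / 64) (by omega)) (n % 64) (Nat.mod_lt _ (by norm_num))
  rw [Nat.div_add_mod, degOK, show Nat.ble n 10 = false by
    rw [Bool.eq_false_iff, Ne, Nat.ble_eq]; omega, h] at h1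
  simpa using h1

variable {Ω : Type*} [Fintype Ω] [MulAction TT Ω] [FaithfulSMul TT Ω]

theorem card_TT : Nat.card TT = 17971200 := card_commutator

theorem ten_lt : 10 < Fintype.card Ω := by
  by_contra h
  classical
  have hinj : Function.Injective (MulAction.toPermHom TT Ω) := MulAction.toPerm_injective
  have h1 := Nat.card_le_card_of_injective _ hinj
  rw [card_TT, Nat.card_perm, Nat.card_eq_fintype_card] at h1
  have h2 := Nat.factorial_le (not_lt.1 h)
  rw [show (10 : ℕ).factorial = 3628800 from rfl] at h2
  omega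

theorem not_two_pretransitive : ¬ MulAction.IsMultiplyPretransitive TT Ω 2 := by
  classical
  intro h2
  have : Finite TT := Nat.finite_of_card_ne_zero (by rw [card_TT]; norm_num)
  have h10 : 10 < Fintype.card Ω := ten_lt
  have htr : MulAction.IsPretransitive TT Ω := MulAction.isPretransitive_of_is_two_pretransitive
  obtain ⟨n, hn⟩ : ∃ n, n = Fintype.card Ω := ⟨_, rfl⟩
  have hnc : Nat.card Ω = n := by rw [hn, Nat.card_eq_fintype_card]
  rw [← hn] at h10
  -- the degree
  have hdvd := dvd_card_of_two_transitive (G := TT) (Ω := Ω) h2 (by omega)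
  rw [hnc, card_TT] at hdvd
  have hlt : n < 4241 := by
    by_contra h
    have h1 := Nat.le_of_dvd (by norm_num) hdvd
    have h3 : 4241 * 4240 ≤ n * (n - 1) := Nat.mul_le_mul (by omega) (by omega)
    omega
  have hmem := degrees n hlt h10 (Nat.mod_eq_zero_of_dvd hdvd)
  have hstab : ∀ a : Ω, Nat.card (MulAction.stabilizer TT a) * n = 17971200 := fun a => by
    rw [← hnc, card_stabilizer_mul, card_TT]
  -- an element never fixes everything
  have hlow : ∀ g : TT, g ≠ 1 → fixCount Ω g ≤ n ∧ fixCount Ω g ≠ n := fun g hg =>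
    ⟨hnc ▸ fixCount_le g, fun h => hg (eq_one_of_fixCount (h.trans hnc.symm))⟩
  obtain ⟨R3, hR3, hR3'⟩ := exists_three
  have e3 := dvd_add_of_const (Ω := Ω) R3 (fixCount Ω ta) fun r hr hr1 =>
    (hR3' r hr hr1).fixCount
  rw [hR3, hnc] at e3
  obtain ⟨R5, hR5, hR5', hR5gen⟩ := exists_five
  have e5 := dvd_add_of_const (Ω := Ω) R5 (fixCount Ω tx) fun r hr hr1 =>
    (hR5' r hr hr1).fixCount
  rw [hR5, hnc] at e5
  have ha := hlow ta ta_ne
  have hx := hlow tx tx_ne
  -- five disjoint sets of fixed points
  have hfive : n = 40 ∨ n = 65 → 5 * fixCount Ω tx ≤ n := by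
    intro hn'
    have hdisj : ∀ i ∈ (Finset.univ : Finset (ZMod 5)), ∀ j ∈ (Finset.univ : Finset (ZMod 5)),
        i ≠ j → Disjoint (Finset.univ.filter fun a : Ω => (tx * ty ^ i.val) • a = a)
          (Finset.univ.filter fun a : Ω => (tx * ty ^ j.val) • a = a) := by
      intro i _ j _ hij
      rw [Finset.disjoint_left]
      intro a h1 h2
      simp only [Finset.mem_filter, Finset.mem_univ, true_and] at h1 h2
      have hi : tx * ty ^ i.val ∈ MulAction.stabilizer TT a := h1
      have hj : tx * ty ^ j.val ∈ MulAction.stabilizer TT a := h2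
      have hd : ty ^ (j - i).val ∈ MulAction.stabilizer TT a := by
        have h := pow_val ty_pow (i.val + (j - i).val)
        push_cast [ZMod.natCast_zmod_val] at h
        rw [add_sub_cancel, pow_add] at h
        have e : ty ^ (j - i).val = (tx * ty ^ i.val)⁻¹ * (tx * ty ^ j.val) := by
          rw [← h, ← mul_assoc tx, inv_mul_cancel_left]
        exact e ▸ mul_mem (inv_mem hi) hj
      have h4 : ∀ d : ZMod 5, d ≠ 0 → d * d ^ 3 = 1 := by decide
      have hy : ty ∈ MulAction.stabilizer TT a := by
        have h := pow_val ty_pow ((j - i).val * ((j - i) ^ 3).val)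
        push_cast [ZMod.natCast_zmod_val] at h
        rw [h4 _ (sub_ne_zero.2 (Ne.symm hij)), show (1 : ZMod 5).val = 1 from rfl, pow_one,
          pow_mul] at h
        exact h ▸ pow_mem hd _
      have hx' : tx ∈ MulAction.stabilizer TT a := by
        simpa using mul_mem hi (inv_mem (pow_mem hy i.val))
      have h25 := Subgroup.card_dvd_of_le (hR5gen _ hx' hy)
      rw [hR5] at h25
      have hs := hstab a
      rcases hn' with rfl | rfl <;> omega
    have hcard : ∀ j : ZMod 5, (Finset.univ.filter fun a : Ω =>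
        (tx * ty ^ j.val) • a = a).card = fixCount Ω tx := fun j => by
      rw [← (P5_line j).fixCount (Ω := Ω), fixCount, Nat.card_coe_set_eq,
        ← Set.ncard_coe_finset]
      congr 1
      ext a
      simp
    calc 5 * fixCount Ω tx
        = ∑ j : ZMod 5, (Finset.univ.filter fun a : Ω => (tx * ty ^ j.val) • a = a).card := by
          rw [Finset.sum_congr rfl fun j _ => hcard j, Finset.sum_const, Finset.card_univ,
            ZMod.card, smul_eq_mul]
      _ = (Finset.univ.biUnion fun j : ZMod 5 =>
          Finset.univ.filter fun a : Ω => (tx * ty ^ j.val) • a = a).card :=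
          (Finset.card_biUnion hdisj).symm
      _ ≤ n := by rw [hn]; exact Finset.card_le_univ _
  -- degree twenty-seven
  have h27 : n ≠ 27 := by
    intro h
    have hfree : ∀ a : Ω, tu • a ≠ a := by
      intro a hu
      obtain ⟨s, hs'⟩ : ∃ s, s = Nat.card (MulAction.stabilizer TT a) := ⟨_, rfl⟩
      have hs := hstab a
      rw [← hs', h] at hs
      have hd : orderOf (⟨tu, hu⟩ : MulAction.stabilizer TT a) ∣ Nat.gcd 3 s :=
        Nat.dvd_gcd (orderOf_dvd_of_pow_eq_one (Subtype.ext tu_cube)) (hs' ▸ orderOf_dvd_natCard _)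
      rw [show s = 665600 by omega, show Nat.gcd 3 665600 = 1 by norm_num, Nat.dvd_one,
        orderOf_eq_one_iff] at hd
      have hu1 : tu = 1 := congrArg Subtype.val hd
      have hz := tu_norm
      rw [hu1, one_mul, mul_one, pow_succ, right_eq_mul] at hz
      have h13 := tz_pow
      rw [show 13 = 2 * 6 + 1 from rfl, pow_add, pow_mul, hz, one_pow, one_mul, pow_one] at h13
      exact tz_ne h13
    have : Fact (Nat.Prime 13) := ⟨by norm_num⟩
    have h13 := orderOf_eq_prime tz_pow tz_ne
    have e13 := dvd_add_of_const (Ω := Ω) (Subgroup.zpowers tz) (fixCount Ω tz) fun r hr hr1 => by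
      have hr13 : orderOf r = 13 :=
        orderOf_eq_prime (by
          obtain ⟨k, rfl⟩ := Subgroup.mem_zpowers_iff.1 hr
          rw [← zpow_natCast, ← zpow_mul, mul_comm, zpow_mul, zpow_natCast, tz_pow, one_zpow]) hr1
      refine fixCount_eq_of_mem ?_ hr
      have := Subgroup.eq_of_le_of_card_ge (Subgroup.zpowers_le.2 hr)
        (by rw [Nat.card_zpowers, Nat.card_zpowers, h13, hr13])
      exact this ▸ Subgroup.mem_zpowers tz
    rw [Nat.card_zpowers, h13, hnc] at e13
    have hz := hlow tz tz_ne
    have hperm : ∀ a : Ω, tz • a = a ↔ tz • (tu • a) = tu • a := by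
      intro a
      have h3 : ∀ b : Ω, tz • b = b → tz ^ 3 • b = b := fun b hb =>
        MulAction.mem_stabilizer_iff.1 (pow_mem (MulAction.mem_stabilizer_iff.2 hb) 3)
      have h9 : ∀ b : Ω, tz ^ 3 • b = b → tz • b = b := fun b hb => by
        have := MulAction.mem_stabilizer_iff.1
          (pow_mem (MulAction.mem_stabilizer_iff.2 hb) 9)
        rwa [← pow_mul, show 3 * 9 = 13 * 2 + 1 from rfl, pow_add, pow_mul, tz_pow, one_pow,
          one_mul, pow_one] at this
      constructor
      · intro ha'
        refine h9 _ ?_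
        rw [← mul_smul, ← tu_norm, mul_smul, ha']
      · intro ha'
        have := h3 _ ha'
        rw [← mul_smul, ← tu_norm, mul_smul] at this
        exact smul_left_cancel tu this
    have h3f : 3 ∣ fixCount Ω tz := by
      by_contra h3
      have : Fintype (MulAction.fixedBy Ω tz) := Fintype.ofFinite _
      rw [fixCount, Nat.card_eq_fintype_card] at h3
      have hσ : ((MulAction.toPerm tu).subtypePerm (p := fun a => a ∈ MulAction.fixedBy Ω tz)
          fun a => (hperm a).symm) ^ 3 ^ 1 = 1 := by
        refine Equiv.ext fun b => Subtype.ext ?_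
        show tu • tu • tu • (b : Ω) = b
        rw [← mul_smul, ← mul_smul, show tu * tu * tu = tu ^ 3 by simp [pow_succ], tu_cube, one_smul]
      have : Fact (Nat.Prime 3) := ⟨by norm_num⟩
      obtain ⟨b, hb⟩ := Equiv.Perm.exists_fixed_point_of_prime h3 hσ
      exact hfree b (congrArg Subtype.val hb)
    omega
  simp only [List.mem_cons, List.not_mem_nil, or_false] at hmem
  rcases hmem with rfl | rfl | rfl | rfl | rfl | rfl | rfl
  · omega
  · omega
  · omega
  · omega
  · exact h27 rfl
  · have := hfive (Or.inl rfl); omega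
  · have := hfive (Or.inr rfl); omega

end Cfsg.Agent.SimpleFacts.TitsTwoTransitive
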